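import Cfsg.Agent.CosetEnum.He.Out.Base
import Cfsg.Agent.CosetEnum.He.Out.Data

/-! The test run on every element of the centralizer of `d`. -/

set_option autoImplicit false

namespace CfsgLib.CosetEnum.He.Out

open Cent (codeOf)

/-- either no involution, or the identity, or a listed involution -/
noncomputable def enumOK (t s : List ℕ) : Bool :=
  !(([0, 1, 180, 1380] : List ℕ).all fun i =>
      Nat.beq (runT Tab.perm.T Tab.perm.L (t ++ s ++ (t ++ s)) i) i) ||
    (codeOf (t ++ s) == code1 || (Acodes.contains (codeOf (t ++ s)) ||
      Bcodes.contains (codeOf (t ++ s))))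

/-- the test for the `k`-th stabilizer element -/
noncomputable def enumRow (k : ℕ) : Bool := sW.all (enumOK (tW.getD k []))

end CfsgLib.CosetEnum.He.Out
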