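import Cfsg.Agent.CosetEnum.He.Out.Enum.Def

/-! Kernel checks of the centralizer elements. -/

set_option autoImplicit false

namespace CfsgLib.CosetEnum.He.Out

theorem enum4 : enumRow 4 = true := by decide +kernel

theorem enum5 : enumRow 5 = true := by decide +kernel

theorem enum6 : enumRow 6 = true := by decide +kernel

theorem enum7 : enumRow 7 = true := by decide +kernel

end CfsgLib.CosetEnum.He.Out
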