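import Cfsg.Agent.CosetEnum.He.Out.Enum.Def

/-! Kernel checks of the centralizer elements. -/

set_option autoImplicit false

namespace CfsgLib.CosetEnum.He.Out

theorem enum8 : enumRow 8 = true := by decide +kernel

theorem enum9 : enumRow 9 = true := by decide +kernel

theorem enum10 : enumRow 10 = true := by decide +kernel

theorem enum11 : enumRow 11 = true := by decide +kernel

end CfsgLib.CosetEnum.He.Out
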